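import Cfsg.Agent.Chev.Longest

/-!
# Characters of the parametrised torus and the centrality of the highest root group

Stated here to keep the import closure of the `D₄` files free of the exceptional data.
-/

set_option autoImplicit false
set_option linter.unusedSectionVars false

namespace CfsgLib.Chev.Sys

open Cfsg.Lie Matrix

universe u

variable {D : ChevalleyDatum} (S : Sys.{u} D) {F : Type u} [Field F]

/-- The values of the characters on the parametrised torus. -/
theorem chi_torHom_prod (c : Fin D.rank → Fˣ) {s : ℕ} (hs : s < D.nroots) :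
    S.chi (torHom D c) s = ∏ l : Fin D.rank, c l ^ D.cartan (l : ℕ) s := by
  classical
  have hhz : ∀ (j : Fin D.rank) (t : Fˣ), ∀ i < D.rank,
      torHom D (Pi.mulSingle j t) i = hz D (D.simple j) t i := by
    intro j t i hi
    show ∏ l, (Pi.mulSingle j t : Fin D.rank → Fˣ) l ^ D.cartan (l : ℕ) (D.simple i) = _
    rw [Finset.prod_eq_single j]
    · rw [Pi.mulSingle_eq_same, hz, S.cr_simple j.2]
    · intro l _ hl; rw [Pi.mulSingle_eq_of_ne hl, _root_.one_zpow]
    · simp
  conv_lhs => rw [← Finset.univ_prod_mulSingle c, map_prod]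
  induction (Finset.univ : Finset (Fin D.rank)) using Finset.cons_induction with
  | empty => simp [chi]
  | cons a A ha ih =>
    rw [Finset.prod_cons, Finset.prod_cons, S.chi_mul, ih,
      S.chi_congr (z' := hz D (D.simple a) (c a)) (fun i hi => hhz a (c a) i hi),
      S.chi_hz_simple a.2 _ hs]

/-- The highest root subgroup is central in `U`. -/
theorem pos_comm_top (hn : 0 < D.nroots) (t : F) :
    D.posUnipotent F ≤ Subgroup.centralizer {S.xU (D.nroots - 1) t} := by
  have htop : D.nroots - 1 < D.nroots := by omega
  have hpos : D.nroots / 2 ≤ D.nroots - 1 := by omega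
  have hu : S.tailU F D.nroots = ⊥ := S.tailU_eq_bot le_rfl
  rw [S.posUnipotent_eq, Sys.tailU, Subgroup.closure_le]
  rintro _ ⟨r, a, hr, hr', rfl⟩
  refine Subgroup.mem_centralizer_singleton_iff.2 ?_
  by_cases hrt : r = D.nroots - 1
  · rw [hrt, S.xU_add, S.xU_add, add_comm]
  · have := S.comm_tail_xU (k := D.nroots - 1) hpos hr hr' a le_rfl htop t
    rw [show D.nroots - 1 + 1 = D.nroots by omega, hu, Subgroup.mem_bot] at this
    rw [mul_inv_eq_one, mul_inv_eq_iff_eq_mul] at this
    exact this.symm

end CfsgLib.Chev.Sys
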